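import Mathlib
import Cfsg.Prelude.Def_Classical
import Cfsg.Agent.LieClassical.FieldTransfer
set_option linter.all false

/-!
# The element orders of `PSp(4,3)`
-/

set_option autoImplicit false
set_option linter.unusedSimpArgs false

namespace Cfsg.Agent.H367.SpecSp43

open Matrix Polynomial

variable {F : Type*} [Field F]

theorem charpoly_dvd (h3 : (3 : F[X]) = 0) (a b : F) (ha : a = 0 ∨ a = 1 ∨ a = 2)
    (hb : b = 0 ∨ b = 1 ∨ b = 2) :
    ((X ^ 4 + C a * X ^ 3 + C b * X ^ 2 + C a * X + 1 : F[X]) ∣ X ^ 5 - 1 ∨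
      (X ^ 4 + C a * X ^ 3 + C b * X ^ 2 + C a * X + 1 : F[X]) ∣ X ^ 5 + 1) ∨
    ((X ^ 4 + C a * X ^ 3 + C b * X ^ 2 + C a * X + 1 : F[X]) ∣ X ^ 9 - 1 ∨
      (X ^ 4 + C a * X ^ 3 + C b * X ^ 2 + C a * X + 1 : F[X]) ∣ X ^ 9 + 1) ∨
    ((X ^ 4 + C a * X ^ 3 + C b * X ^ 2 + C a * X + 1 : F[X]) ∣ X ^ 12 - 1 ∨
      (X ^ 4 + C a * X ^ 3 + C b * X ^ 2 + C a * X + 1 : F[X]) ∣ X ^ 12 + 1) := by
  rcases ha with rfl | rfl | rfl <;> rcases hb with rfl | rfl | rfl
  · right; right; right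
    exact ⟨1 + (-1)*X^4 + 1*X^8, by simp only [map_zero, map_one, map_ofNat]; linear_combination (0) * h3⟩
  · right; right; left
    exact ⟨(-1) + 1*X^2 + (-1)*X^6 + 1*X^8, by simp only [map_zero, map_one, map_ofNat]; linear_combination (0) * h3⟩
  · right; right; left
    exact ⟨(-1) + (-1)*X^2 + 1*X^6 + 1*X^8, by simp only [map_zero, map_one, map_ofNat]; linear_combination (1*X^2 + 1*X^4 + (-1)*X^8 + (-1)*X^10) * h3⟩
  · right; left; right
    exact ⟨1 + (-1)*X^1 + 1*X^2 + 1*X^3 + (-1)*X^4 + 1*X^5, by simp only [map_zero, map_one, map_ofNat]; linear_combination ((-1)*X^3 + (-1)*X^6) * h3⟩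
  · left; left
    exact ⟨(-1) + 1*X^1, by simp only [map_zero, map_one, map_ofNat]; linear_combination (0) * h3⟩
  · right; right; left
    exact ⟨(-1) + 1*X^1 + 1*X^2 + 1*X^3 + (-1)*X^5 + (-1)*X^6 + (-1)*X^7 + 1*X^8, by simp only [map_zero, map_one, map_ofNat]; linear_combination ((-1)*X^3 + (-1)*X^4 + (-1)*X^5 + 1*X^7 + 1*X^8 + 1*X^9) * h3⟩
  · right; left; left
    exact ⟨(-1) + (-1)*X^1 + (-1)*X^2 + 1*X^3 + 1*X^4 + 1*X^5, by simp only [map_zero, map_one, map_ofNat]; linear_combination (1*X^1 + 1*X^2 + 1*X^3 + (-1)*X^6 + (-1)*X^7 + (-1)*X^8) * h3⟩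
  · left; right
    exact ⟨1 + 1*X^1, by simp only [map_zero, map_one, map_ofNat]; linear_combination ((-1)*X^1 + (-1)*X^2 + (-1)*X^3 + (-1)*X^4) * h3⟩
  · right; right; left
    exact ⟨(-1) + (-1)*X^1 + 1*X^2 + (-1)*X^3 + 1*X^5 + (-1)*X^6 + 1*X^7 + 1*X^8, by simp only [map_zero, map_one, map_ofNat]; linear_combination (1*X^1 + 1*X^2 + 1*X^3 + 1*X^4 + (-1)*X^8 + (-1)*X^9 + (-1)*X^10 + (-1)*X^11) * h3⟩

theorem charpoly_reverse {m : ℕ} (A : Matrix (Fin m ⊕ Fin m) (Fin m ⊕ Fin m) F)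
    (hA : A ∈ symplecticGroup (Fin m) F) : A.charpoly.reverse = A.charpoly := by
  have hdet : A.det = 1 := SymplecticGroup.det_eq_one hA
  have hu : IsUnit A := (Matrix.isUnit_iff_isUnit_det A).2 (by rw [hdet]; exact isUnit_one)
  have h1 := Matrix.charpoly_inv A hu
  rw [hdet, Ring.inverse_one, map_one, mul_one, ← Matrix.reverse_charpoly, Fintype.card_sum,
    Fintype.card_fin, ← two_mul, pow_mul, neg_one_sq, one_pow, one_mul] at h1
  rw [← h1, SymplecticGroup.inv_eq_symplectic_inv A hA]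
  have hJ : (-J (Fin m) F) * J (Fin m) F = 1 := by rw [neg_mul, J_squared, neg_neg]
  have hJ' : J (Fin m) F * (-J (Fin m) F) = 1 := by rw [mul_neg, J_squared, neg_neg]
  have h2 := Matrix.charpoly_units_conj (⟨-J (Fin m) F, J (Fin m) F, hJ, hJ'⟩ :
    (Matrix (Fin m ⊕ Fin m) (Fin m ⊕ Fin m) F)ˣ) Aᵀ
  rw [Matrix.charpoly_transpose] at h2
  have h3 : (-J (Fin m) F)⁻¹ = J (Fin m) F := Matrix.inv_eq_right_inv hJ
  change (-J (Fin m) F * Aᵀ * (-J (Fin m) F)⁻¹).charpoly = _ at h2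
  rwa [h3] at h2

theorem charpoly_eq (A : Matrix (Fin 2 ⊕ Fin 2) (Fin 2 ⊕ Fin 2) F)
    (hA : A ∈ symplecticGroup (Fin 2) F) :
    ∃ a b : F, A.charpoly = X ^ 4 + C a * X ^ 3 + C b * X ^ 2 + C a * X + 1 := by
  refine ⟨A.charpoly.coeff 3, A.charpoly.coeff 2, ?_⟩
  have hdeg : A.charpoly.natDegree = 4 := by
    rw [Matrix.charpoly_natDegree_eq_dim, Fintype.card_sum, Fintype.card_fin]
  have hrev := charpoly_reverse A hA
  have hlead : A.charpoly.coeff 4 = 1 := by
    have := Matrix.charpoly_monic A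
    rw [Polynomial.Monic, Polynomial.leadingCoeff, hdeg] at this
    exact this
  have h0 : A.charpoly.coeff 0 = 1 := by
    have := congrArg (fun f => Polynomial.coeff f 0) hrev
    simp only [Polynomial.coeff_reverse, hdeg] at this
    rw [← this, Polynomial.revAt_le (by norm_num)]
    exact hlead
  have h1 : A.charpoly.coeff 1 = A.charpoly.coeff 3 := by
    have := congrArg (fun f => Polynomial.coeff f 1) hrev
    simp only [Polynomial.coeff_reverse, hdeg] at this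
    rw [← this, Polynomial.revAt_le (by norm_num)]
  have h := (Matrix.charpoly_monic A).as_sum
  rw [hdeg] at h
  simp only [Finset.sum_range_succ, Finset.sum_range_zero] at h
  rw [h0, h1] at h
  refine h.trans ?_
  simp only [pow_zero, pow_one, mul_one, map_neg, map_one]
  ring

theorem pow_eq_one [Fintype F] (hF : Fintype.card F = 3)
    (A : Matrix (Fin 2 ⊕ Fin 2) (Fin 2 ⊕ Fin 2) F) (hA : A ∈ symplecticGroup (Fin 2) F) :
    (A ^ 5 = 1 ∨ A ^ 5 = -1) ∨ (A ^ 9 = 1 ∨ A ^ 9 = -1) ∨ (A ^ 12 = 1 ∨ A ^ 12 = -1) := by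
  classical
  have hc : ∀ x : F, x = 0 ∨ x = 1 ∨ x = 2 := by
    intro x
    have h1 : x ^ 3 = x := by rw [← hF]; exact FiniteField.pow_card x
    have h3 : (3 : F) = 0 := by
      have := Nat.cast_card_eq_zero (R := F)
      rw [hF] at this
      exact_mod_cast this
    have h2 : x * (x - 1) * (x - 2) = 0 := by
      linear_combination h1 + (x - x ^ 2) * h3
    rcases mul_eq_zero.1 h2 with h | h
    · rcases mul_eq_zero.1 h with h | h
      · exact Or.inl h
      · exact Or.inr (Or.inl (sub_eq_zero.1 h))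
    · exact Or.inr (Or.inr (sub_eq_zero.1 h))
  have h3 : (3 : F[X]) = 0 := by
    have : (3 : F) = 0 := by
      have := Nat.cast_card_eq_zero (R := F)
      rw [hF] at this
      exact_mod_cast this
    rw [← map_ofNat (C : F →+* F[X]) 3, this, map_zero]
  obtain ⟨a, b, hab⟩ := charpoly_eq A hA
  have key : ∀ N : ℕ, A.charpoly ∣ X ^ N - 1 → A ^ N = 1 := by
    rintro N ⟨q, hq⟩
    have h := congrArg (Polynomial.aeval A) hq
    rw [map_mul, Matrix.aeval_self_charpoly, zero_mul] at h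
    simp only [map_sub, map_pow, aeval_X, map_one] at h
    exact sub_eq_zero.1 h
  have key' : ∀ N : ℕ, A.charpoly ∣ X ^ N + 1 → A ^ N = -1 := by
    rintro N ⟨q, hq⟩
    have h := congrArg (Polynomial.aeval A) hq
    rw [map_mul, Matrix.aeval_self_charpoly, zero_mul] at h
    simp only [map_add, map_pow, aeval_X, map_one] at h
    exact eq_neg_of_add_eq_zero_left h
  rcases charpoly_dvd h3 a b (hc a) (hc b) with (h | h) | (h | h) | (h | h)
  · exact Or.inl (Or.inl (key 5 (hab ▸ h)))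
  · exact Or.inl (Or.inr (key' 5 (hab ▸ h)))
  · exact Or.inr (Or.inl (Or.inl (key 9 (hab ▸ h))))
  · exact Or.inr (Or.inl (Or.inr (key' 9 (hab ▸ h))))
  · exact Or.inr (Or.inr (Or.inl (key 12 (hab ▸ h))))
  · exact Or.inr (Or.inr (Or.inr (key' 12 (hab ▸ h))))

theorem range_subset [Fintype F] (hF : Fintype.card F = 3) (x : PSp 2 F) :
    orderOf x ∈ ({1, 2, 3, 4, 5, 6, 9, 12} : Set ℕ) := by
  obtain ⟨g, rfl⟩ := QuotientGroup.mk_surjective x
  have key : ∀ N : ℕ, (g.1 ^ N = 1 ∨ g.1 ^ N = -1) →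
      orderOf (QuotientGroup.mk g : PSp 2 F) ∣ N := by
    intro N hN
    apply orderOf_dvd_of_pow_eq_one
    rw [← QuotientGroup.mk_pow, QuotientGroup.eq_one_iff, Subgroup.mem_center_iff]
    intro h
    apply Subtype.ext
    change h.1 * (g ^ N).1 = (g ^ N).1 * h.1
    rw [SubmonoidClass.coe_pow]
    rcases hN with hN | hN
    · rw [hN, mul_one, one_mul]
    · rw [hN, mul_neg, neg_mul, mul_one, one_mul]
  rcases pow_eq_one hF g.1 g.2 with h | h | h
  · have hd := key _ h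
    rcases (Nat.dvd_prime (by norm_num : Nat.Prime 5)).1 hd with h | h <;> simp [h]
  · have hd := key _ h
    have hle := Nat.le_of_dvd (by norm_num) hd
    generalize orderOf (QuotientGroup.mk g : PSp 2 F) = k at hd hle ⊢
    interval_cases k <;> first | (exfalso; revert hd; norm_num; done) | simp
  · have hd := key _ h
    have hle := Nat.le_of_dvd (by norm_num) hd
    generalize orderOf (QuotientGroup.mk g : PSp 2 F) = k at hd hle ⊢
    interval_cases k <;> first | (exfalso; revert hd; norm_num; done) | simp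

theorem not_central {g h : symplecticGroup (Fin 2) F} (hgh : g.1 * h.1 ≠ h.1 * g.1) :
    g ∉ Subgroup.center (symplecticGroup (Fin 2) F) := by
  intro hc
  apply hgh
  have := (Subgroup.mem_center_iff.1 hc h)
  exact (congrArg (fun x : symplecticGroup (Fin 2) F => x.1) this).symm

theorem orderOf_mk (g : symplecticGroup (Fin 2) F) (n : ℕ) (hn : 0 < n) (h : g ^ n = 1)
    (h' : ∀ p : ℕ, p.Prime → p ∣ n → g ^ (n / p) ∉ Subgroup.center (symplecticGroup (Fin 2) F)) :
    orderOf (QuotientGroup.mk g : PSp 2 F) = n := by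
  apply orderOf_eq_of_pow_and_pow_div_prime hn
  · rw [← QuotientGroup.mk_pow, h, QuotientGroup.mk_one]
  · intro p hp hpn hc
    rw [← QuotientGroup.mk_pow, QuotientGroup.eq_one_iff] at hc
    exact h' p hp hpn hc

abbrev M3 := Matrix (Fin 2 ⊕ Fin 2) (Fin 2 ⊕ Fin 2) (ZMod 3)

def m1 : M3 := fromBlocks 1 !![1, 0; 0, 0] 0 1
def m5 : M3 := fromBlocks !![0, 1; 2, 2] !![0, 0; 1, 0] !![2, 0; 2, 0] !![0, 1; 0, 0]
def m9 : M3 := fromBlocks !![1, 1; 0, 1] 0 !![1, 0; 2, 0] !![1, 0; 2, 1]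
def m12 : M3 := fromBlocks !![1, 1; 0, 1] !![1, 0; 0, 0] !![1, 0; 2, 0] !![2, 0; 1, 1]

def g1 : symplecticGroup (Fin 2) (ZMod 3) := ⟨m1, by rw [SymplecticGroup.mem_iff]; decide +kernel⟩
def g5 : symplecticGroup (Fin 2) (ZMod 3) := ⟨m5, by rw [SymplecticGroup.mem_iff]; decide +kernel⟩
def g9 : symplecticGroup (Fin 2) (ZMod 3) := ⟨m9, by rw [SymplecticGroup.mem_iff]; decide +kernel⟩
def g12 : symplecticGroup (Fin 2) (ZMod 3) := ⟨m12, by rw [SymplecticGroup.mem_iff]; decide +kernel⟩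

theorem m5_pow : m5 ^ 5 = 1 ∧ m5 * m1 ≠ m1 * m5 := by decide +kernel
theorem m9_pow : m9 ^ 9 = 1 ∧ m9 ^ 3 * m5 ≠ m5 * m9 ^ 3 := by decide +kernel
theorem m12_pow : m12 ^ 12 = 1 ∧ m12 ^ 4 * m5 ≠ m5 * m12 ^ 4 ∧ m12 ^ 6 * m5 ≠ m5 * m12 ^ 6 := by
  decide +kernel

theorem coe_pow' (g : symplecticGroup (Fin 2) (ZMod 3)) (m : ℕ) : (g ^ m).1 = g.1 ^ m :=
  SubmonoidClass.coe_pow g m

theorem fact3 : Fact (Nat.Prime 3) := ⟨Nat.prime_three⟩

attribute [local instance] fact3

theorem orderOf_five : orderOf (QuotientGroup.mk g5 : PSp 2 (ZMod 3)) = 5 := by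
  apply orderOf_mk _ _ (by norm_num)
  · apply Subtype.ext
    rw [coe_pow']
    exact m5_pow.1
  · intro p hp hpd
    rw [(Nat.prime_dvd_prime_iff_eq hp (by norm_num)).1 hpd]
    apply not_central (h := g1)
    rw [coe_pow', Nat.div_self (by norm_num), pow_one]
    exact m5_pow.2

theorem orderOf_nine : orderOf (QuotientGroup.mk g9 : PSp 2 (ZMod 3)) = 9 := by
  apply orderOf_mk _ _ (by norm_num)
  · apply Subtype.ext
    rw [coe_pow']
    exact m9_pow.1
  · intro p hp hpd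
    have h2 : p = 3 := by
      have : p ∣ 3 ^ 2 := hpd
      exact (Nat.prime_dvd_prime_iff_eq hp Nat.prime_three).1 (hp.dvd_of_dvd_pow this)
    subst h2
    apply not_central (h := g5)
    rw [coe_pow']
    exact m9_pow.2

theorem orderOf_twelve : orderOf (QuotientGroup.mk g12 : PSp 2 (ZMod 3)) = 12 := by
  apply orderOf_mk _ _ (by norm_num)
  · apply Subtype.ext
    rw [coe_pow']
    exact m12_pow.1
  · intro p hp hpd
    have h2 : p = 2 ∨ p = 3 := by
      have : p ∣ 2 ^ 2 * 3 := hpd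
      rcases (Nat.Prime.dvd_mul hp).1 this with h | h
      · exact Or.inl ((Nat.prime_dvd_prime_iff_eq hp Nat.prime_two).1 (hp.dvd_of_dvd_pow h))
      · exact Or.inr ((Nat.prime_dvd_prime_iff_eq hp Nat.prime_three).1 h)
    rcases h2 with rfl | rfl
    · apply not_central (h := g5)
      rw [coe_pow']
      exact m12_pow.2.2
    · apply not_central (h := g5)
      rw [coe_pow']
      exact m12_pow.2.1

theorem range_zmod : Set.range (orderOf : PSp 2 (ZMod 3) → ℕ) = {1, 2, 3, 4, 5, 6, 9, 12} := by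
  ext m
  constructor
  · rintro ⟨x, rfl⟩
    exact range_subset (ZMod.card 3) x
  · intro hm
    have hx := orderOf_twelve
    generalize (QuotientGroup.mk g12 : PSp 2 (ZMod 3)) = x at hx
    rcases hm with rfl | rfl | rfl | rfl | rfl | rfl | rfl | rfl
    · exact ⟨1, orderOf_one⟩
    · refine ⟨x ^ 6, ?_⟩
      rw [orderOf_pow' _ (by norm_num), hx]
      norm_num
    · refine ⟨x ^ 4, ?_⟩
      rw [orderOf_pow' _ (by norm_num), hx]
      norm_num
    · refine ⟨x ^ 3, ?_⟩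
      rw [orderOf_pow' _ (by norm_num), hx]
      norm_num
    · exact ⟨_, orderOf_five⟩
    · refine ⟨x ^ 2, ?_⟩
      rw [orderOf_pow' _ (by norm_num), hx]
      norm_num
    · exact ⟨_, orderOf_nine⟩
    · exact ⟨x, hx⟩

/-- The element orders of `PSp(4,3)`. -/
theorem range_orderOf [Fintype F] (hF : Fintype.card F = 3) :
    Set.range (orderOf : PSp 2 F → ℕ) = {1, 2, 3, 4, 5, 6, 9, 12} := by
  have e : PSp 2 F ≃* PSp 2 (ZMod 3) := LieClassical.FieldTransfer.pspCongr 2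
    (FiniteField.ringEquivOfCardEq (by rw [hF, ZMod.card]))
  rw [← range_zmod]
  ext m
  constructor
  · rintro ⟨x, rfl⟩
    exact ⟨e x, orderOf_injective e.toMonoidHom e.injective x⟩
  · rintro ⟨x, rfl⟩
    exact ⟨e.symm x, orderOf_injective e.symm.toMonoidHom e.symm.injective x⟩

end Cfsg.Agent.H367.SpecSp43
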