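import Mathlib
set_option linter.all false

-- part: H367/ListGrp
section
/-!
# Explicit finite groups of units given by the list of their elements
-/

set_option autoImplicit false

namespace Cfsg.Agent.H367.ListGrp

variable {M : Type*} [Monoid M]

/-- If the finite list `S` contains `1` and is stable under left multiplication by the
generators, then the group generated by the generators is contained in `S`. -/
theorem mem_of_mem_closure (A : Set Mˣ) (S : List M) (h1 : (1 : M) ∈ S)
    (hA : ∀ g ∈ A, ∀ s ∈ S, (g : M) * s ∈ S) : ∀ k ∈ Subgroup.closure A, (k : M) ∈ S := by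
  classical
  set T : Set Mˣ := {u | (u : M) ∈ S} with hT
  have hTfin : T.Finite := by
    apply Set.Finite.of_finite_image (f := fun u : Mˣ => (u : M))
    · exact (List.finite_toSet S).subset (by rintro _ ⟨u, hu, rfl⟩; exact hu)
    · intro x _ y _ h
      exact Units.ext h
  have hinv : ∀ g ∈ A, ∀ u ∈ T, g⁻¹ * u ∈ T := by
    intro g hg u hu
    have hmaps : Set.MapsTo (fun x => g * x) T T := by
      intro x hx
      simpa [hT] using hA g hg _ hx
    have hinj : Set.InjOn (fun x => g * x) T := fun x _ y _ h => mul_left_cancel h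
    have hsurj := ((hTfin.injOn_iff_bijOn_of_mapsTo hmaps).1 hinj).surjOn
    obtain ⟨x, hx, hxu⟩ := hsurj hu
    have : g⁻¹ * u = x := by
      rw [← hxu]
      simp
    rw [this]
    exact hx
  intro k hk
  have : k ∈ T := by
    induction hk using Subgroup.closure_induction_left with
    | one => simpa [hT] using h1
    | mul_left x hx y hy ih =>
      have := hA x hx _ ih
      simpa [hT] using this
    | inv_mul_cancel x hx y hy ih => exact hinv x hx _ ih
  exact this

/-- If each member of the list is `1` or the product of a generator and an earlier member,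
then all the members are units in the group generated by the generators. -/
theorem exists_of_mem (A : Set Mˣ) (S : List M)
    (h : ∀ i : Fin S.length, S.get i = 1 ∨ ∃ g ∈ A, ∃ j : Fin S.length, j < i ∧
      S.get i = (g : M) * S.get j) : ∀ s ∈ S, ∃ k ∈ Subgroup.closure A, (k : M) = s := by
  have key : ∀ (m : ℕ) (i : Fin S.length), (i : ℕ) = m → ∃ k ∈ Subgroup.closure A, (k : M) = S.get i := by
    intro m
    induction m using Nat.strong_induction_on with
    | _ m ih =>
      intro i hi
      rcases h i with h1 | ⟨g, hg, j, hj, hij⟩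
      · exact ⟨1, one_mem _, by rw [h1]; rfl⟩
      · obtain ⟨k, hk, hkj⟩ := ih j (by rw [← hi]; exact hj) j rfl
        exact ⟨g * k, mul_mem (Subgroup.subset_closure hg) hk, by rw [hij, ← hkj]; rfl⟩
  intro s hs
  obtain ⟨i, hi⟩ := List.get_of_mem hs
  obtain ⟨k, hk, hki⟩ := key _ i rfl
  exact ⟨k, hk, by rw [hki, hi]⟩

theorem card_closure (A : Set Mˣ) (S : List M) (hnd : S.Nodup)
    (h1 : ∀ k ∈ Subgroup.closure A, (k : M) ∈ S)
    (h2 : ∀ s ∈ S, ∃ k ∈ Subgroup.closure A, (k : M) = s) :
    Nat.card (Subgroup.closure A) = S.length := by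
  classical
  have hb : Function.Bijective (fun k : Subgroup.closure A => (⟨(k.1 : M), h1 k.1 k.2⟩ : {x // x ∈ S})) := by
    constructor
    · intro x y hxy
      have := congrArg Subtype.val hxy
      exact Subtype.ext (Units.ext this)
    · rintro ⟨s, hs⟩
      obtain ⟨k, hk, hks⟩ := h2 s hs
      exact ⟨⟨k, hk⟩, Subtype.ext hks⟩
  rw [Nat.card_eq_of_bijective _ hb]
  have : Nat.card {x // x ∈ S} = Fintype.card {x // x ∈ S.toFinset} := by
    rw [Nat.card_eq_fintype_card]
    apply Fintype.card_congr
    exact Equiv.subtypeEquivRight (by simp)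
  rw [this, Fintype.card_coe, List.toFinset_card_of_nodup hnd]

end Cfsg.Agent.H367.ListGrp
end

-- part: H367/Frob
section
/-!
# The spectrum of `(ZMod p)^n ⋊ K` for a fixed-point-free matrix group `K`
-/

set_option autoImplicit false

namespace Cfsg.Agent.H367.Frob

open Matrix

variable {n : ℕ} {R : Type} [CommRing R]

/-- The automorphism of `Multiplicative (Fin n → R)` given by an invertible matrix. -/
def actAut (k : (Matrix (Fin n) (Fin n) R)ˣ) : MulAut (Multiplicative (Fin n → R)) where
  toFun v := Multiplicative.ofAdd ((k : Matrix (Fin n) (Fin n) R) *ᵥ Multiplicative.toAdd v)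
  invFun v := Multiplicative.ofAdd (((k⁻¹ : (Matrix (Fin n) (Fin n) R)ˣ) : Matrix (Fin n) (Fin n) R) *ᵥ
    Multiplicative.toAdd v)
  left_inv v := by
    simp [Matrix.mulVec_mulVec]
  right_inv v := by
    simp [Matrix.mulVec_mulVec]
  map_mul' v w := by
    simp [Matrix.mulVec_add]

/-- The action of a matrix group as a homomorphism into the automorphism group. -/
def act (K : Subgroup (Matrix (Fin n) (Fin n) R)ˣ) : K →* MulAut (Multiplicative (Fin n → R)) where
  toFun k := actAut k.1
  map_one' := by
    ext v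
    simp [actAut]
  map_mul' a b := by
    ext v
    simp [actAut, Matrix.mulVec_mulVec]

theorem act_apply (K : Subgroup (Matrix (Fin n) (Fin n) R)ˣ) (k : K)
    (v : Multiplicative (Fin n → R)) :
    act K k v = Multiplicative.ofAdd ((k.1 : Matrix (Fin n) (Fin n) R) *ᵥ Multiplicative.toAdd v) :=
  rfl

/-- In a semidirect product `N ⋊ K` with `N` commutative of prime exponent `p`, `K` acting
without fixed points, the element orders are `1`, `p` and those of `K`. -/
theorem range_orderOf {N K : Type*} [CommGroup N] [Group K] [Finite K] (φ : K →* MulAut N) (p : ℕ)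
    [hp : Fact p.Prime] (hN : ∀ v : N, v ^ p = 1) (hnt : ∃ v : N, v ≠ 1)
    (hfix : ∀ k : K, k ≠ 1 → ∀ v : N, φ k v = v → v = 1) :
    Set.range (orderOf : (N ⋊[φ] K) → ℕ) = {p} ∪ Set.range (orderOf : K → ℕ) := by
  have hright : ∀ (h : N ⋊[φ] K) (m : ℕ), (h ^ m).right = h.right ^ m := fun h m =>
    map_pow (SemidirectProduct.rightHom : (N ⋊[φ] K) →* K) h m
  have key : ∀ h : N ⋊[φ] K, h.right ≠ 1 → orderOf h = orderOf h.right := by
    intro h hh
    apply Nat.dvd_antisymm
    · apply orderOf_dvd_of_pow_eq_one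
      have h1 : (h ^ orderOf h.right).right = 1 := by rw [hright, pow_orderOf_eq_one]
      have hc : h * h ^ orderOf h.right = h ^ orderOf h.right * h := (pow_mul_comm' h _).symm
      have hl := congrArg SemidirectProduct.left hc
      rw [SemidirectProduct.mul_left, SemidirectProduct.mul_left, h1, map_one,
        MulAut.one_apply, mul_comm (h ^ orderOf h.right).left h.left] at hl
      have h2 := hfix _ hh _ (mul_left_cancel hl)
      exact SemidirectProduct.ext h2 h1
    · have := orderOf_map_dvd (SemidirectProduct.rightHom : (N ⋊[φ] K) →* K) h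
      exact this
  have key1 : ∀ h : N ⋊[φ] K, h.right = 1 → orderOf h = orderOf h.left := by
    intro h hh
    have : h = SemidirectProduct.inl h.left := SemidirectProduct.ext (by simp) (by simpa using hh)
    conv_lhs => rw [this]
    exact orderOf_injective _ SemidirectProduct.inl_injective _
  ext m
  constructor
  · rintro ⟨h, rfl⟩
    by_cases hh : h.right = 1
    · rw [key1 h hh]
      have : orderOf h.left ∣ p := orderOf_dvd_of_pow_eq_one (hN _)
      rcases (Nat.dvd_prime hp.out).1 this with h1 | h1
      · right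
        exact ⟨1, by rw [orderOf_one, h1]⟩
      · left
        exact h1
    · right
      exact ⟨h.right, (key h hh).symm⟩
  · rintro (rfl | ⟨k, rfl⟩)
    · obtain ⟨v, hv⟩ := hnt
      refine ⟨SemidirectProduct.inl v, ?_⟩
      rw [orderOf_injective _ SemidirectProduct.inl_injective]
      exact orderOf_eq_prime (hN v) hv
    · exact ⟨SemidirectProduct.inr k, orderOf_injective _ SemidirectProduct.inr_injective _⟩

theorem solvable_semidirect {N K : Type*} [CommGroup N] [Group K] (φ : K →* MulAut N)
    (hK : Group.IsSolvable K) : Group.IsSolvable (N ⋊[φ] K) := by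
  have hN : Group.IsSolvable N := inferInstance
  exact Group.isSolvable_of_ker_le_range (SemidirectProduct.inl : N →* N ⋊[φ] K)
    (SemidirectProduct.rightHom : (N ⋊[φ] K) →* K)
    (SemidirectProduct.range_inl_eq_ker_rightHom (φ := φ)).ge

end Cfsg.Agent.H367.Frob
end

-- part: H367/ListGrp2
section
/-!
# Fixed-point-free matrix groups of order `2^a * 3` given by lists; the spectrum of the
corresponding Frobenius groups
-/

set_option autoImplicit false

namespace Cfsg.Agent.H367.ListGrp

open Matrix

theorem mem_of_map_eq {M : Type*} [Zero M] (L : List M) (f : M → M) (idx : List ℕ)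
    (h : L.map f = idx.map (fun i => L.getD i 0)) (hlt : ∀ i ∈ idx, i < L.length) :
    ∀ x ∈ L, f x ∈ L := by
  intro x hx
  have h1 : f x ∈ L.map f := List.mem_map_of_mem hx
  rw [h, List.mem_map] at h1
  obtain ⟨i, hi, hix⟩ := h1
  rw [← hix, List.getD_eq_getElem _ _ (hlt i hi)]
  exact List.getElem_mem _

theorem getD_of_map_eq {M : Type*} [Zero M] (L : List M) (f : M → M) (idx : List ℕ)
    (h : L.map f = idx.map (fun i => L.getD i 0)) (i : ℕ) (hi : i < L.length) :
    f (L.getD i 0) = L.getD (idx.getD i 0) 0 := by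
  have hlen : idx.length = L.length := by
    have := congrArg List.length h
    simpa using this.symm
  have h1 : (L.map f)[i]'(by simpa using hi) = (idx.map (fun i => L.getD i 0))[i]'(by
      simpa [hlen] using hi) := by
    simp only [h]
  rw [List.getElem_map, List.getElem_map] at h1
  rw [List.getD_eq_getElem _ _ hi, List.getD_eq_getElem idx _ (by rw [hlen]; exact hi), h1]

variable {n : ℕ} {R : Type*} [CommRing R]

theorem fix_eq_zero {x : Matrix (Fin n) (Fin n) R} (h2 : IsUnit (2 : R)) (h3 : IsUnit (3 : R))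
    (hx : x = -1 ∨ x * x = -1 ∨ (x * x) * (x * x) = -1 ∨ x * x + x + 1 = 0 ∨ x * x - x + 1 = 0 ∨
      (x * x) * (x * x) - x * x + 1 = 0)
    (v : Fin n → R) (hv : x *ᵥ v = v) : v = 0 := by
  have hxx : (x * x) *ᵥ v = v := by rw [← Matrix.mulVec_mulVec, hv, hv]
  have hxxxx : ((x * x) * (x * x)) *ᵥ v = v := by rw [← Matrix.mulVec_mulVec, hxx, hxx]
  have two : ∀ w : Fin n → R, -w = w → w = 0 := by
    intro w hw
    have h : (2 : R) • w = 0 := by
      rw [two_smul]
      nth_rewrite 1 [← hw]
      simp
    exact (h2.smul_eq_zero).1 h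
  rcases hx with h | h | h | h | h | h
  · apply two
    rw [h] at hv
    simpa [Matrix.neg_mulVec] using hv
  · apply two
    rw [h] at hxx
    simpa [Matrix.neg_mulVec] using hxx
  · apply two
    rw [h] at hxxxx
    simpa [Matrix.neg_mulVec] using hxxxx
  · have h4 : (x * x + x + 1) *ᵥ v = (0 : Matrix (Fin n) (Fin n) R) *ᵥ v := by rw [h]
    rw [Matrix.add_mulVec, Matrix.add_mulVec, hxx, hv, Matrix.one_mulVec, Matrix.zero_mulVec] at h4
    have h5 : (3 : R) • v = 0 := by
      rw [show (3 : R) = 1 + 1 + 1 by norm_num, add_smul, add_smul, one_smul]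
      exact h4
    exact (h3.smul_eq_zero).1 h5
  · have h4 : (x * x - x + 1) *ᵥ v = (0 : Matrix (Fin n) (Fin n) R) *ᵥ v := by rw [h]
    rw [Matrix.add_mulVec, Matrix.sub_mulVec, hxx, hv, Matrix.one_mulVec, Matrix.zero_mulVec] at h4
    simpa using h4
  · have h4 : ((x * x) * (x * x) - x * x + 1) *ᵥ v = (0 : Matrix (Fin n) (Fin n) R) *ᵥ v := by rw [h]
    rw [Matrix.add_mulVec, Matrix.sub_mulVec, hxxxx, hxx, Matrix.one_mulVec, Matrix.zero_mulVec] at h4
    simpa using h4

theorem pow_six {A : Type*} [Ring A] {x : A} (h : x * x + x + 1 = 0 ∨ x * x - x + 1 = 0) :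
    x ^ 6 = 1 := by
  rcases h with h | h
  · have h1 : x ^ 6 - 1 = (x - 1) * (x ^ 3 + 1) * (x * x + x + 1) := by noncomm_ring
    rw [h, mul_zero] at h1
    exact sub_eq_zero.1 h1
  · have h1 : x ^ 6 - 1 = (x + 1) * (x ^ 3 - 1) * (x * x - x + 1) := by noncomm_ring
    rw [h, mul_zero] at h1
    exact sub_eq_zero.1 h1

theorem pow_twelve {A : Type*} [Ring A] {x : A} (h : (x * x) * (x * x) - x * x + 1 = 0) :
    x ^ 12 = 1 := by
  have h1 : (x * x) ^ 6 = 1 := pow_six (Or.inr h)
  rw [← h1, ← sq, ← pow_mul]

theorem pow_eight {A : Type*} [Ring A] {x : A}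
    (h : x = 1 ∨ x = -1 ∨ x * x = -1 ∨ (x * x) * (x * x) = -1) : x ^ 8 = 1 := by
  have h1 : x ^ 8 = ((x * x) * (x * x)) * ((x * x) * (x * x)) := by noncomm_ring
  rcases h with h | h | h | h
  · rw [h, one_pow]
  · rw [h]
    norm_num
  · rw [h1, h]
    norm_num
  · rw [h1, h]
    norm_num

theorem orderOf_eq {G : Type*} [Monoid G] (x : G) (n : ℕ) (hn : 0 < n) (h : x ^ n = 1)
    (h' : ∀ m, m ∣ n → m < n → x ^ m ≠ 1) : orderOf x = n := by
  have h1 : orderOf x ∣ n := orderOf_dvd_of_pow_eq_one h
  by_contra hne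
  exact h' _ h1 (lt_of_le_of_ne (Nat.le_of_dvd hn h1) hne) (pow_orderOf_eq_one x)

end Cfsg.Agent.H367.ListGrp
end
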